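import Mathlib

/-!
# No rank three parameters over M(24)

With valency 306936 and 31671 common partners on edges, no number of common partners below the
valency dividing `k (k - λ - 1)` gives a square discriminant.
-/

set_option autoImplicit false

namespace Cfsg.Agent.FischerThm.Numbers24

/-- The discriminant, `(λ - μ)² + 4 (k - μ)`. -/
def disc (μ : ℕ) : ℕ := ((31671 - μ) + (μ - 31671)) ^ 2 + 4 * (306936 - μ)

/-- The test. -/
def test (μ : ℕ) : Bool :=
  decide (306936 ≤ μ) || (Nat.sqrt (disc μ) ^ 2 != disc μ)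

/-- The divisors of 216, 1421, 64 and 4301. -/
def divs : List ℕ :=
  [1, 2, 3, 4, 6, 8, 9, 12, 18, 24, 27, 36, 54, 72, 108, 216]

theorem mem_216 : ∀ a < 217, 216 % a = 0 → a ∈ divs := by decide +kernel

theorem mem_1421 : ∀ q : Fin 58, ∀ r : Fin 25, 1421 % (q.val * 25 + r.val) = 0 →
    q.val * 25 + r.val ∈ [1, 7, 29, 49, 203, 1421] := by
  decide +kernel

theorem mem_64 : ∀ a < 65, 64 % a = 0 → a ∈ [1, 2, 4, 8, 16, 32, 64] := by decide +kernel

theorem mem_4301 : ∀ q : Fin 87, ∀ r : Fin 50, 4301 % (q.val * 50 + r.val) = 0 →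
    q.val * 50 + r.val ∈ [1, 11, 17, 23, 187, 253, 391, 4301] := by
  decide +kernel

theorem test_all : (divs.all fun a => [1, 7, 29, 49, 203, 1421].all fun b =>
    [1, 2, 4, 8, 16, 32, 64].all fun c => [1, 11, 17, 23, 187, 253, 391, 4301].all fun e =>
      test (a * b * (c * e))) = true := by
  decide +kernel

theorem not_square (μ : ℕ) (hdvd : μ ∣ 216 * 1421 * (64 * 4301)) (hlt : μ < 306936) :
    ¬ IsSquare (disc μ) := by
  obtain ⟨u, v, hu, hv, rfl⟩ := exists_dvd_and_dvd_of_dvd_mul hdvd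
  obtain ⟨a, b, ha, hb, rfl⟩ := exists_dvd_and_dvd_of_dvd_mul hu
  obtain ⟨c, e, hc, he, rfl⟩ := exists_dvd_and_dvd_of_dvd_mul hv
  have ha' := mem_216 a (Nat.lt_succ_of_le (Nat.le_of_dvd (by norm_num) ha))
    (Nat.mod_eq_zero_of_dvd ha)
  have hc' := mem_64 c (Nat.lt_succ_of_le (Nat.le_of_dvd (by norm_num) hc))
    (Nat.mod_eq_zero_of_dvd hc)
  have hb1 := Nat.le_of_dvd (by norm_num) hb
  have he1 := Nat.le_of_dvd (by norm_num) he
  have hb' := mem_1421 ⟨b / 25, by omega⟩ ⟨b % 25, by omega⟩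
  rw [show b / 25 * 25 + b % 25 = b by omega] at hb'
  have he' := mem_4301 ⟨e / 50, by omega⟩ ⟨e % 50, by omega⟩
  rw [show e / 50 * 50 + e % 50 = e by omega] at he'
  have h := List.all_eq_true.1 (List.all_eq_true.1 (List.all_eq_true.1
    (List.all_eq_true.1 test_all a ha') b (hb' (Nat.mod_eq_zero_of_dvd hb))) c hc') e
      (he' (Nat.mod_eq_zero_of_dvd he))
  rintro ⟨w, hw⟩
  simp only [test, Bool.or_eq_true, decide_eq_true_eq, bne_iff_ne] at h
  rcases h with h | h
  · omega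
  · refine h ?_
    rw [hw, Nat.sqrt_eq, sq]

end Cfsg.Agent.FischerThm.Numbers24
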