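import Cfsg.Agent.ThreeTrans.SrgTrace

/-!
# The discriminant of a strongly regular relation, general form

The proof is that of `ThreeTrans.isSquare_of_srg`; only the positivity of the trace term is replaced
by its being nonzero.
-/

set_option autoImplicit false

namespace Cfsg.Agent.FischerThm

open Matrix

/-- The discriminant of a strongly regular relation with unequal multiplicities. -/
theorem isSquare_disc {α : Type*} [Fintype α] (R : α → α → Prop) (hsymm : ∀ a b, R a b → R b a)
    (hirr : ∀ a, ¬ R a a) (k l m : ℕ) (hk : ∀ a, {b | R a b}.ncard = k)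
    (hl : ∀ a b, R a b → {c | R a c ∧ R b c}.ncard = l)
    (hm : ∀ a b, a ≠ b → ¬ R a b → {c | R a c ∧ R b c}.ncard = m)
    (hmk : m < k) (hN : 2 ≤ Fintype.card α) (D₀ : ℕ)
    (hD₀ : (D₀ : ℤ) = ((l : ℤ) - m) ^ 2 + 4 * ((k : ℤ) - m))
    (hT0 : ((l : ℤ) - m) * ((Fintype.card α : ℤ) - 1) + 2 * k ≠ 0) :
    IsSquare D₀ := by
  classical
  set A : Matrix α α ℝ := of fun a b => if R a b then 1 else 0 with hA
  set J : Matrix α α ℝ := of fun _ _ => 1 with hJ
  set N : ℝ := (Fintype.card α : ℝ) with hNdef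
  have hAab : ∀ a b, A a b = if R a b then 1 else 0 := fun _ _ => rfl
  have hJab : ∀ a b, J a b = 1 := fun _ _ => rfl
  have hcard : ∀ (p : α → Prop), (∑ c, if p c then (1 : ℝ) else 0) = {c | p c}.ncard := fun p => by
    rw [Finset.sum_boole, Set.ncard_eq_toFinset_card']
    simp
  have hAJ : A * J = (k : ℝ) • J := by
    ext a b
    simp only [mul_apply, hAab, hJab, mul_one, Matrix.smul_apply, smul_eq_mul, hcard, hk]
  have hJA : J * A = (k : ℝ) • J := by
    ext a b
    simp only [mul_apply, hAab, hJab, one_mul, Matrix.smul_apply, smul_eq_mul, mul_one]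
    rw [hcard, ← hk b]
    congr 1
    congr 1
    ext c
    exact ⟨hsymm _ _, hsymm _ _⟩
  have hJJ : J * J = N • J := by
    ext a b
    simp [mul_apply, hJab, Matrix.smul_apply, hNdef]
  have hAA : A * A = ((k : ℝ) - m) • (1 : Matrix α α ℝ) + ((l : ℝ) - m) • A + (m : ℝ) • J := by
    ext a b
    have hprod : (A * A) a b = {c | R a c ∧ R b c}.ncard := by
      rw [mul_apply, ← hcard]
      refine Finset.sum_congr rfl fun c _ => ?_
      rw [hAab, hAab]
      by_cases h1 : R a c <;> by_cases h2 : R b c <;>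
        simp [h1, h2, show R c b ↔ R b c from ⟨hsymm _ _, hsymm _ _⟩]
    rw [hprod]
    simp only [Matrix.add_apply, Matrix.smul_apply, smul_eq_mul, hAab, hJab, one_apply]
    rcases eq_or_ne a b with rfl | hne
    · rw [if_pos rfl, if_neg (hirr a)]
      simp [hk]
    · rw [if_neg hne]
      by_cases h : R a b
      · rw [if_pos h, hl a b h]; ring
      · rw [if_neg h, hm a b hne h]; ring
  have hN0 : N ≠ 0 := by simp [hNdef]; omega
  set e : ℝ := 2 * k - ((l : ℝ) - m)
  set D : ℝ := ((l : ℝ) - m) ^ 2 + 4 * ((k : ℝ) - m)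
  have hDpos : 0 < D := by
    have h2 : (m : ℝ) < k := by exact_mod_cast hmk
    simp only [D]
    nlinarith [sq_nonneg ((l : ℝ) - m)]
  -- the second condition read off from the all-one vector
  have hDe : D + 4 * m * N = e ^ 2 := by
    have h1 : (A * A) * J = ((k : ℝ) * k) • J := by
      rw [Matrix.mul_assoc, hAJ, Matrix.mul_smul, hAJ, smul_smul]
    rw [hAA, Matrix.add_mul, Matrix.add_mul, Matrix.smul_mul, Matrix.smul_mul, Matrix.smul_mul,
      Matrix.one_mul, hAJ, hJJ] at h1
    obtain ⟨a⟩ : Nonempty α := Fintype.card_pos_iff.1 (by omega)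
    have h2 := congrFun (congrFun h1 a) a
    simp only [Matrix.add_apply, Matrix.smul_apply, smul_eq_mul, hJab, mul_one] at h2
    simp only [D, e]
    linear_combination 4 * h2
  set C : Matrix α α ℝ := (2 : ℝ) • A - ((l : ℝ) - m) • (1 : Matrix α α ℝ)
  have hCJ : C * J = e • J := by
    simp only [C, Matrix.sub_mul, Matrix.smul_mul, hAJ, Matrix.one_mul, smul_smul, ← sub_smul]
    rfl
  have hJC : J * C = e • J := by
    simp only [C, Matrix.mul_sub, Matrix.mul_smul, hJA, Matrix.mul_one, smul_smul, ← sub_smul]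
    rfl
  have hCC : C * C = D • (1 : Matrix α α ℝ) + (4 * (m : ℝ)) • J := by
    simp only [C, D, Matrix.sub_mul, Matrix.mul_sub, Matrix.smul_mul, Matrix.mul_smul, hAA,
      Matrix.one_mul, Matrix.mul_one]
    module
  set Q : Matrix α α ℝ := (1 : Matrix α α ℝ) - N⁻¹ • J
  set B : Matrix α α ℝ := C - (e / N) • J
  have hQQ : Q * Q = Q := by
    simp only [Q, Matrix.sub_mul, Matrix.mul_sub, Matrix.smul_mul, Matrix.mul_smul, hJJ,
      Matrix.one_mul, Matrix.mul_one, smul_smul]
    match_scalars <;> field_simp <;> ring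
  have hBQ : B * Q = B := by
    simp only [B, Q, Matrix.sub_mul, Matrix.mul_sub, Matrix.smul_mul, Matrix.mul_smul, hJJ, hCJ,
      Matrix.mul_one, smul_smul]
    match_scalars <;> field_simp <;> ring
  have hQB : Q * B = B := by
    simp only [B, Q, Matrix.sub_mul, Matrix.mul_sub, Matrix.smul_mul, Matrix.mul_smul, hJJ, hJC,
      Matrix.one_mul, smul_smul]
    match_scalars <;> field_simp <;> ring
  have hBB : B * B = D • Q := by
    simp only [B, Q, Matrix.sub_mul, Matrix.mul_sub, Matrix.smul_mul, Matrix.mul_smul, hJJ, hJC,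
      hCJ, hCC, smul_smul]
    match_scalars
    · ring
    · field_simp
      linear_combination hDe
  set s := Real.sqrt D
  have hs : s ≠ 0 := (Real.sqrt_pos.2 hDpos).ne'
  have hs2 : s * s = D := Real.mul_self_sqrt hDpos.le
  set P : Matrix α α ℝ := (1 / 2 : ℝ) • (Q + s⁻¹ • B)
  have hPP : P * P = P := by
    simp only [P, Matrix.smul_mul, Matrix.mul_smul, Matrix.add_mul, Matrix.mul_add, hQQ, hBQ, hQB, hBB,
      smul_smul]
    rw [← hs2]
    match_scalars <;> field_simp <;> ring
  obtain ⟨r, hr⟩ := ThreeTrans.exists_nat_trace_idempotent hPP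
  have htA : A.trace = 0 := Finset.sum_eq_zero fun a _ => by simp [hAab, hirr a]
  have htJ : J.trace = N := by simp [Matrix.trace, hJab, hNdef]
  have htB : B.trace = -(((l : ℝ) - m) * N + e) := by
    simp only [B, C, Matrix.trace_sub, Matrix.trace_smul, htA, htJ, Matrix.trace_one, smul_eq_mul]
    field_simp
    ring
  have htP : P.trace = 1 / 2 * ((N - 1) + s⁻¹ * B.trace) := by
    simp only [P, Q, Matrix.trace_smul, Matrix.trace_add, Matrix.trace_sub, Matrix.trace_one, htJ,
      smul_eq_mul]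
    field_simp
    ring
  rw [htP, htB] at hr
  set T : ℤ := ((l : ℤ) - m) * (Fintype.card α : ℤ) + (2 * (k : ℤ) - ((l : ℤ) - m))
  set z : ℤ := (Fintype.card α : ℤ) - 1 - 2 * (r : ℤ)
  have key : s * (z : ℝ) = (T : ℝ) := by
    have : ((T : ℤ) : ℝ) = ((l : ℝ) - m) * N + e := by simp [T, e, hNdef]
    rw [this]
    have hz : (z : ℝ) = N - 1 - 2 * r := by simp [z, hNdef]
    rw [hz]
    field_simp at hr
    linear_combination hr
  have hT : T ≠ 0 := fun h => hT0 (by simp only [T] at h; linarith)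
  have hz0 : z ≠ 0 := fun h => by
    rw [h, Int.cast_zero, mul_zero] at key
    exact hT (by exact_mod_cast key.symm)
  refine ThreeTrans.isSquare_of_sqrt (t := T) hz0 ?_
  have h2 : D * (z : ℝ) ^ 2 = (T : ℝ) ^ 2 := by rw [← key, mul_pow, sq s, hs2]
  have h3 : ((D₀ : ℤ) : ℝ) = D := by
    rw [hD₀]
    push_cast
    rfl
  exact_mod_cast (show ((D₀ : ℤ) : ℝ) * (z : ℝ) ^ 2 = (T : ℝ) ^ 2 by rw [h3]; exact h2)

end Cfsg.Agent.FischerThm
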