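import Cfsg.Agent.FischerThm.Cases
import Cfsg.Agent.FischerThm.Local.Chart
import Cfsg.Agent.FischerThm.Local.Lines
import Cfsg.Agent.FischerThm.MTypes.Srg
import Cfsg.Agent.FischerThm.MTypes.Numbers
import Cfsg.Agent.ThreeTrans.BaseM24

/-!
# Type M(24) does not occur below

The graph on the class would be strongly regular with valency 306936 and 31671 common partners on
edges; no number of common partners of a noncommuting pair is possible.
-/

set_option autoImplicit false

open Cfsg
open Cfsg.Agent.ThreeTrans (dperp)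

namespace Cfsg.Agent.FischerThm

/-- The numbers of members and of partners in type M(24). -/
theorem counts_M24 {K : Type*} [Group K] [Finite K] {E : Set K} (H : Hyp E)
    (h24 : IsOfTypeM24 K E) : E.ncard = 306936 ∧ ∀ e ∈ E, (dperp E e).ncard = 31671 := by
  obtain ⟨X, _, _, T, hB⟩ := ThreeTrans.exists_base24 H.group H.primitive h24
  obtain ⟨e₀, he₀⟩ := H.nonempty
  exact ⟨(ThreeTrans.counts24 H.group hB he₀).1,
    fun e he => (ThreeTrans.layer_counts24 hB he).1⟩

/-- Type M(24) below is impossible. -/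
theorem no_M24_below {G : Type*} [Group G] [Finite G] {D : Set G} {d : G} (S : Step D d)
    (h : IsOfTypeM24 (LowBar D d) (lowSet D d)) : False := by
  classical
  obtain ⟨hk0, hl0⟩ := counts_M24 S.low h
  have hcj := ThreeTrans.class_conj S.cls
  have hC := S.barChart
  have hk : ∀ a ∈ D, (dperp D a).ncard = 306936 := by
    intro a ha
    obtain ⟨g, hg⟩ := ThreeTrans.class_isConj S.cls ha S.mem
    rw [(hC.moveTo hcj hg).ncard_eq, hk0]
  have hl : ∀ a ∈ D, ∀ b ∈ dperp D a, (dperp D a ∩ dperp D b).ncard = 31671 := by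
    intro a ha b hb
    obtain ⟨g, hg⟩ := ThreeTrans.class_isConj S.cls ha S.mem
    have C := hC.moveTo hcj hg
    have hbij := C.bijOn_dperp hb
    rw [← Set.InjOn.ncard_image hbij.injOn, hbij.image_eq]
    exact hl0 _ (C.mem hb)
  obtain ⟨c, hc, hdc⟩ := S.toHyp.exists_not_commute S.mem
  set μ := (common D d c).ncard with hμdef
  have hμ : ∀ a ∈ D, ∀ b ∈ D, ¬ Commute a b → (dperp D a ∩ dperp D b).ncard = μ := by
    intro a ha b hb hab
    obtain ⟨g, hga, hgb⟩ := S.toHyp.exists_conj_pair S.mem (w := c) ⟨hc, hdc⟩ ha (y := b) ⟨hb, hab⟩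
    have him : (fun u => g * u * g⁻¹) '' (dperp D d ∩ dperp D c) = dperp D a ∩ dperp D b := by
      rw [Set.image_inter (fun u w h => mul_left_cancel (mul_right_cancel h)),
        (bijOn_conj_dperp hcj g d).image_eq, (bijOn_conj_dperp hcj g c).image_eq, hga, hgb]
    rw [← him, Set.ncard_image_of_injective _ fun u w h => mul_left_cancel (mul_right_cancel h)]
    rfl
  have hμk : μ < 306936 := by
    by_contra hge
    push Not at hge
    have h1 : dperp D d ∩ dperp D c = dperp D d :=
      Set.eq_of_subset_of_ncard_le Set.inter_subset_left (by rw [hk d S.mem]; exact hge)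
        (Set.toFinite _)
    have h2 : dperp D d ∩ dperp D c = dperp D c :=
      Set.eq_of_subset_of_ncard_le Set.inter_subset_right (by rw [hk c hc]; exact hge)
        (Set.toFinite _)
    refine hdc (?_ : Commute d c)
    rw [S.toHyp.eq_of_theta S.mem hc (show ThreeTrans.Theta D d c from fun e he => ?_)]
    have hiff : e ∈ dperp D d ↔ e ∈ dperp D c := by rw [← h1, h2]
    exact ⟨fun hh => (hiff.1 ⟨he, hh⟩).2, fun hh => (hiff.2 ⟨he, hh⟩).2⟩
  have hcount : (aside D d).ncard * μ + 306936 * (31671 + 1) = 306936 * 306936 := by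
    obtain ⟨b, hb⟩ := S.toHyp.exists_dperp S.mem
    have := S.toHyp.count S.mem ⟨hc, hdc⟩ hb
    rw [hk d S.mem, hl d S.mem b hb] at this
    exact this
  have hdvd : μ ∣ 216 * 1421 * (64 * 4301) :=
    ⟨(aside D d).ncard, by rw [mul_comm μ]; omega⟩
  have hn : D.ncard = 1 + 306936 + (aside D d).ncard := by
    rw [ncard_members S.mem, hk d S.mem]
  refine Numbers24.not_square μ hdvd hμk ?_
  have : Fintype D := (Set.toFinite D).fintype
  have hcard : Fintype.card D = D.ncard := by rw [← Nat.card_eq_fintype_card, Nat.card_coe_set_eq]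
  have hpull : ∀ P : G → Prop, (∀ u, P u → u ∈ D) → {u : D | P u}.ncard = {u | P u}.ncard := by
    intro P hP
    rw [← Set.ncard_image_of_injective {u : D | P u} Subtype.val_injective]
    congr 1
    exact Set.ext fun u => ⟨fun ⟨w, hw, e⟩ => e ▸ hw, fun hu => ⟨⟨u, hP u hu⟩, hu, rfl⟩⟩
  refine isSquare_disc (α := ↥D) (fun u v => (v : G) ∈ dperp D u)
    (fun u v h => ThreeTrans.dperp_symm u.2 h) (fun u h => h.2.1 rfl) 306936 31671 μ
    (fun u => ?_) (fun u v h => ?_) (fun u v hne h => ?_) hμk (by omega) _ ?_ ?_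
  · rw [hpull _ fun w hw => hw.1]
    exact hk u u.2
  · rw [hpull (fun w => w ∈ dperp D u ∧ w ∈ dperp D v) fun w hw => hw.1.1]
    exact hl u u.2 v h
  · rw [hpull (fun w => w ∈ dperp D u ∧ w ∈ dperp D v) fun w hw => hw.1.1]
    exact hμ u u.2 v v.2 fun hh => h ⟨v.2, fun e => hne (Subtype.ext e.symm), hh⟩
  · rcases le_total μ 31671 with h1 | h1
    · rw [Numbers24.disc, show μ - 31671 = 0 by omega, add_zero]
      push_cast [Nat.cast_sub h1, Nat.cast_sub hμk.le]
      ring
    · rw [Numbers24.disc, show 31671 - μ = 0 by omega, zero_add]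
      push_cast [Nat.cast_sub h1, Nat.cast_sub hμk.le]
      ring
  · rw [hcard, hn]
    intro h0
    have hc' : ((aside D d).ncard : ℤ) * μ + 306936 * (31671 + 1) = 306936 * 306936 := by
      exact_mod_cast hcount
    push_cast at h0
    rcases lt_trichotomy ((μ : ℤ)) 31671 with h1 | h1 | h1
    · have h2 : (1 : ℤ) ≤ 31671 - (μ : ℤ) := by omega
      nlinarith [(Int.natCast_nonneg (aside D d).ncard)]
    · rw [h1] at h0
      omega
    · have h2 : (2 : ℤ) ≤ (μ : ℤ) - 31671 ∨ (μ : ℤ) = 31672 := by omega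
      rcases h2 with h2 | h2
      · have hpos : (1 : ℤ) ≤ (aside D d).ncard := by
          have : 0 < (aside D d).ncard := Set.ncard_pos (Set.toFinite _) |>.2 ⟨c, hc, hdc⟩
          omega
        nlinarith
      · rw [h2] at h0 hc'
        omega

end Cfsg.Agent.FischerThm
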